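import Cfsg.Agent.H999.PslGraphTwo
import Cfsg.Agent.H199.PslOddGraph
import Cfsg.Agent.ClassicalGeometry.HermOrthonormal
import Cfsg.Agent.S0752

/-!
# Normal forms of forms over finite fields, matrix version (helper253, for S4327)

* `herm_nf` (NF1) : a hermitian invertible matrix is `P (σP)ᵀ`;
* `symm_nf_odd` (NF2) : odd characteristic, `n ≥ 3`: `P diag(1, -1, d, ...) Pᵀ`;
* `symm_nf_even` (NF3) : characteristic two, nonzero diagonal: `P Pᵀ`;
* `alt_nf` (NF4) : alternating: `n` is even and `P J Pᵀ`.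
-/

set_option autoImplicit false

namespace Cfsg.Agent.H253.Gs

open Matrix Module
open Cfsg.Agent.H999.PslGraph Cfsg.Agent.H999.PslGraphOdd

/-- symplectic Gram matrix: J e_{2k} = - e_{2k+1}, J e_{2k+1} = e_{2k} -/
def Jm (F : Type*) [Field F] (n : ℕ) : Matrix (Fin n) (Fin n) F := Matrix.of fun i j =>
  if (i : ℕ) % 2 = 0 ∧ (j : ℕ) = i + 1 then 1 else if (j : ℕ) % 2 = 0 ∧ (i : ℕ) = j + 1 then -1 else 0

section basic

variable {F : Type*} [Field F] {n : ℕ}

/-- the invertible matrix whose columns are a basis -/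
theorem exists_cols (v : Basis (Fin n) F (Fin n → F)) :
    ∃ A : GL (Fin n) F, ∀ i, A.1 *ᵥ Pi.single i 1 = v i := by
  let P : Matrix (Fin n) (Fin n) F := (Pi.basisFun F (Fin n)).toMatrix v
  have hP : IsUnit P.det := by
    have h := congrArg Matrix.det (Module.Basis.toMatrix_mul_toMatrix_flip (Pi.basisFun F (Fin n)) v)
    rw [Matrix.det_mul, Matrix.det_one] at h
    exact IsUnit.of_mul_eq_one _ h
  refine ⟨Matrix.GeneralLinearGroup.mkOfDetNeZero P hP.ne_zero, fun i => ?_⟩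
  change P *ᵥ Pi.single i 1 = v i
  rw [mulVec_single_one]
  ext j
  rw [col_apply]
  simp [P, Module.Basis.toMatrix_apply]

/-- the transposed inverse -/
noncomputable def ti (A : GL (Fin n) F) : GL (Fin n) F :=
  ⟨(A⁻¹).1ᵀ, A.1ᵀ, by rw [← transpose_mul, ← Units.val_mul, mul_inv_cancel, Units.val_one, transpose_one],
    by rw [← transpose_mul, ← Units.val_mul, inv_mul_cancel, Units.val_one, transpose_one]⟩

theorem eq_of_congr {B C : Matrix (Fin n) (Fin n) F} {A : GL (Fin n) F} (h : A.1ᵀ * B * A.1 = C) :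
    B = (ti A).1 * C * (ti A).1ᵀ := by
  have h1 : (A⁻¹).1ᵀ * A.1ᵀ = 1 := by
    rw [← transpose_mul, ← Units.val_mul, mul_inv_cancel, Units.val_one, transpose_one]
  have h2 : A.1 * (A⁻¹).1 = 1 := by rw [← Units.val_mul, mul_inv_cancel, Units.val_one]
  change B = (A⁻¹).1ᵀ * C * (A⁻¹).1ᵀᵀ
  rw [← h, transpose_transpose]
  calc B = 1 * B * 1 := by rw [Matrix.one_mul, Matrix.mul_one]
    _ = (A⁻¹).1ᵀ * A.1ᵀ * B * (A.1 * (A⁻¹).1) := by rw [h1, h2]
    _ = _ := by simp only [Matrix.mul_assoc]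

/-- a basis with Gram matrix `C` -/
theorem exists_of_basis {B C : Matrix (Fin n) (Fin n) F} (v : Basis (Fin n) F (Fin n → F))
    (hv : ∀ i j, bil B (v i) (v j) = C i j) : ∃ P : GL (Fin n) F, B = P.1 * C * P.1ᵀ := by
  obtain ⟨A, hA⟩ := exists_cols v
  refine ⟨ti A, eq_of_congr ?_⟩
  refine Matrix.ext fun i j => ?_
  rw [← bil_single (A.1ᵀ * B * A.1), ← bil_mulVec, hA, hA, hv]

/-- an isometry of forms -/
theorem exists_of_equiv {B C : Matrix (Fin n) (Fin n) F} (e : (Fin n → F) ≃ₗ[F] (Fin n → F))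
    (he : ∀ x y, bil B (e x) (e y) = bil C x y) : ∃ P : GL (Fin n) F, B = P.1 * C * P.1ᵀ := by
  refine exists_of_basis ((Pi.basisFun F (Fin n)).map e) fun i j => ?_
  rw [Basis.map_apply, Basis.map_apply, he, Pi.basisFun_apply, Pi.basisFun_apply, bil_single]

theorem nondeg_bil (h : GL (Fin n) F) (u : Fin n → F) (hu : ∀ v, Matrix.toBilin' h.1 u v = 0) : u = 0 := by
  apply eq_zero_of_dotProduct
  intro w
  have h2 := hu ((h⁻¹).1 *ᵥ w)
  rw [← bil_eq_toBilin, bil, mulVec_mulVec, ← Units.val_mul, mul_inv_cancel, Units.val_one, one_mulVec] at h2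
  exact h2

/-- **NF4.** -/
theorem alt_nf (h : GL (Fin n) F) (hh : h.1ᵀ = -h.1) (hd : ∀ i, h.1 i i = 0) :
    Even n ∧ ∃ P : GL (Fin n) F, h.1 = P.1 * Jm F n * P.1ᵀ := by
  classical
  have hij : ∀ i j, h.1 j i = - h.1 i j := fun i j => by
    have := congrFun (congrFun hh i) j
    rwa [transpose_apply, neg_apply] at this
  -- the form is alternating
  have hA : (Matrix.toBilin' h.1).IsAlt := by
    intro u
    rw [← bil_eq_toBilin, bil, dotProduct]
    have h1 : ∀ i, u i * (h.1 *ᵥ u) i = ∑ j, u i * (h.1 i j * u j) := fun i => by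
      rw [mulVec, dotProduct, Finset.mul_sum]
    simp only [h1]
    rw [← Finset.sum_product']
    refine Finset.sum_involution (fun p _ => (p.2, p.1)) ?_ ?_ (fun p _ => by simp) (fun p _ => by simp)
    · rintro ⟨i, j⟩ -
      simp only
      rw [hij i j]
      ring
    · rintro ⟨i, j⟩ - hne heq
      simp only [Prod.mk.injEq] at heq
      apply hne
      simp only
      rw [heq.1, hd, zero_mul, mul_zero]
  obtain ⟨m, k, b, h1, h2, h3, h4⟩ := Cfsg.Agent.S0752.result (Matrix.toBilin' h.1) hA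
  have hk : k = 0 := by
    by_contra hk
    have := nondeg_bil h _ (h4 ⟨0, Nat.pos_of_ne_zero hk⟩)
    exact b.ne_zero _ this
  subst hk
  have hn : n = m + m := by
    have := Module.finrank_eq_card_basis b
    simp at this
    exact this
  refine ⟨⟨m, hn⟩, ?_⟩
  -- the index set
  let e : (Fin m ⊕ Fin m) ⊕ Fin 0 ≃ Fin n :=
    { toFun := Sum.elim (Sum.elim (fun k => ⟨2 * k, by omega⟩) (fun k => ⟨2 * k + 1, by omega⟩)) (fun k => k.elim0)
      invFun := fun i => if (i : ℕ) % 2 = 0 then Sum.inl (Sum.inl ⟨i / 2, by omega⟩)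
        else Sum.inl (Sum.inr ⟨i / 2, by omega⟩)
      left_inv := by
        rintro ((k | k) | k)
        · have : (2 * (k : ℕ)) % 2 = 0 := by omega
          simp only [Sum.elim_inl, this, if_true]
          congr 2
          apply Fin.ext
          simp
        · have : ¬ (2 * (k : ℕ) + 1) % 2 = 0 := by omega
          simp only [Sum.elim_inl, Sum.elim_inr, this, if_false]
          congr 2
          apply Fin.ext
          change (2 * (k : ℕ) + 1) / 2 = k
          omega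
        · exact k.elim0
      right_inv := by
        intro i
        by_cases hi : (i : ℕ) % 2 = 0
        · simp only [hi, if_true, Sum.elim_inl]
          apply Fin.ext
          change 2 * ((i : ℕ) / 2) = i
          omega
        · simp only [hi, if_false, Sum.elim_inl, Sum.elim_inr]
          apply Fin.ext
          change 2 * ((i : ℕ) / 2) + 1 = i
          omega }
  have hneg : ∀ u v, Matrix.toBilin' h.1 v u = - Matrix.toBilin' h.1 u v := fun u v => by
    rw [← hA.neg_eq u v]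
  refine exists_of_basis (b.reindex e) fun i j => ?_
  obtain ⟨i, rfl⟩ := e.surjective i
  obtain ⟨j, rfl⟩ := e.surjective j
  rw [bil_eq_toBilin, Basis.reindex_apply, Basis.reindex_apply, Equiv.symm_apply_apply, Equiv.symm_apply_apply, Jm,
    of_apply]
  rcases i with (i | i) | i
  · rcases j with (j | j) | j
    · rw [h2]
      change 0 = if (2 * (i : ℕ)) % 2 = 0 ∧ (2 * (j : ℕ)) = (2 * (i : ℕ)) + 1 then 1
        else if (2 * (j : ℕ)) % 2 = 0 ∧ (2 * (i : ℕ)) = (2 * (j : ℕ)) + 1 then -1 else 0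
      rw [if_neg (by omega), if_neg (by omega)]
    · rw [h1]
      change _ = if (2 * (i : ℕ)) % 2 = 0 ∧ (2 * (j : ℕ) + 1) = (2 * (i : ℕ)) + 1 then 1
        else if (2 * (j : ℕ) + 1) % 2 = 0 ∧ (2 * (i : ℕ)) = (2 * (j : ℕ) + 1) + 1 then -1 else 0
      by_cases hij' : i = j
      · subst hij'
        rw [if_pos rfl, if_pos (by omega)]
      · have : (i : ℕ) ≠ j := fun e => hij' (Fin.ext e)
        rw [if_neg hij', if_neg (by omega), if_neg (by omega)]
    · exact j.elim0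
  · rcases j with (j | j) | j
    · rw [hneg, h1]
      change _ = if (2 * (i : ℕ) + 1) % 2 = 0 ∧ (2 * (j : ℕ)) = (2 * (i : ℕ) + 1) + 1 then 1
        else if (2 * (j : ℕ)) % 2 = 0 ∧ (2 * (i : ℕ) + 1) = (2 * (j : ℕ)) + 1 then -1 else 0
      by_cases hij' : j = i
      · subst hij'
        rw [if_pos rfl, if_neg (by omega), if_pos (by omega)]
      · have : (j : ℕ) ≠ i := fun e => hij' (Fin.ext e)
        rw [if_neg hij', if_neg (by omega), if_neg (by omega), neg_zero]
    · rw [h3]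
      change 0 = if (2 * (i : ℕ) + 1) % 2 = 0 ∧ (2 * (j : ℕ) + 1) = (2 * (i : ℕ) + 1) + 1 then 1
        else if (2 * (j : ℕ) + 1) % 2 = 0 ∧ (2 * (i : ℕ) + 1) = (2 * (j : ℕ) + 1) + 1 then -1 else 0
      rw [if_neg (by omega), if_neg (by omega)]
    · exact j.elim0
  · exact i.elim0

end basic

section finite

variable {F : Type*} [Field F] [Finite F] {n : ℕ}

/-- **NF2.** -/
theorem symm_nf_odd (h2 : (2 : F) ≠ 0) (hn : 3 ≤ n) (h : GL (Fin n) F) (hh : h.1ᵀ = h.1) :
    ∃ (P : GL (Fin n) F) (d : Fin n → Fˣ), d ⟨0, by omega⟩ = 1 ∧ d ⟨1, by omega⟩ = -1 ∧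
      h.1 = P.1 * diagonal (fun i => (d i : F)) * P.1ᵀ := by
  classical
  let δ : Fˣ := GeneralLinearGroup.det h
  have hδ : (δ : F) = h.1.det := rfl
  let d : Fin n → Fˣ := fun i => if i = ⟨1, by omega⟩ then -1 else if i = ⟨2, by omega⟩ then -δ else 1
  have hd0 : d ⟨0, by omega⟩ = 1 := by
    simp only [d]
    rw [if_neg (by simp), if_neg (by simp)]
  have hd1 : d ⟨1, by omega⟩ = -1 := by simp [d]
  have hprod : ∏ i, d i = δ := by
    have h1 : ∀ i : Fin n, d i = (if i = ⟨1, by omega⟩ then -1 else 1) * (if i = ⟨2, by omega⟩ then -δ else 1) := by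
      intro i
      simp only [d]
      by_cases hi : i = ⟨1, by omega⟩
      · subst hi
        rw [if_pos rfl, if_pos rfl, if_neg (by simp), mul_one]
      · rw [if_neg hi, if_neg hi, one_mul]
    simp only [h1]
    rw [Finset.prod_mul_distrib, Finset.prod_ite_eq' Finset.univ, Finset.prod_ite_eq' Finset.univ, if_pos (Finset.mem_univ _),
      if_pos (Finset.mem_univ _), neg_mul, one_mul, neg_neg]
  obtain ⟨P, hP⟩ := exists_diag h2 h hh (fun i => (d i : F)) (fun i => (d i).ne_zero) 1 (by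
    rw [one_pow, one_mul, ← hδ, ← hprod, Units.coe_prod])
  exact ⟨ti P, d, hd0, hd1, eq_of_congr hP⟩

/-- **NF3.** -/
theorem symm_nf_even (h2 : (2 : F) = 0) (h : GL (Fin n) F) (hh : h.1ᵀ = h.1) (hd : ∃ i, h.1 i i ≠ 0) :
    ∃ P : GL (Fin n) F, h.1 = P.1 * P.1ᵀ := by
  classical
  have hchar : CharP F 2 := CharTwo.of_one_ne_zero_of_two_eq_zero one_ne_zero h2
  suffices hs : ∃ P : GL (Fin n) F, h.1 = P.1 * (1 : Matrix (Fin n) (Fin n) F) * P.1ᵀ by
    obtain ⟨P, hP⟩ := hs
    exact ⟨P, by rwa [Matrix.mul_one] at hP⟩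
  obtain ⟨i₀, hi₀⟩ := hd
  rcases Nat.even_or_odd' n with ⟨m, hm | hm⟩
  · -- even
    have hm0 : 0 < m := by have := i₀.2; omega
    let w : Fin m ⊕ Fin m → F := fun _ => 1
    have hw : w ≠ 0 := fun h0 => one_ne_zero (congrFun h0 (Sum.inl ⟨0, hm0⟩))
    obtain ⟨T, hT⟩ := Cfsg.Agent.H999.PslGraphTwo.exists_form hm h hh (fun h0 => hi₀ (by
      rw [← bil_single h.1, h0])) hw
    obtain ⟨T', hT'⟩ := Cfsg.Agent.H999.PslGraphTwo.exists_form hm (1 : GL (Fin n) F) (by
      rw [Units.val_one, transpose_one]) (fun h0 => by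
      have := h0 (Pi.single i₀ 1)
      rw [bil_single, Units.val_one, one_apply_eq] at this
      exact one_ne_zero this) hw
    refine exists_of_equiv (T'.symm.trans T) fun x y => ?_
    rw [LinearEquiv.trans_apply, LinearEquiv.trans_apply, hT, ← hT', LinearEquiv.apply_symm_apply,
      LinearEquiv.apply_symm_apply, Units.val_one]
  · -- odd
    have hfr : finrank F (Fin n → F) = 2 * m + 1 := by rw [finrank_fin_fun, hm]
    have hsym : ∀ g : GL (Fin n) F, g.1ᵀ = g.1 → ∀ u v, Matrix.toBilin' g.1 u v = Matrix.toBilin' g.1 v u := by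
      intro g hg u v
      rw [← bil_eq_toBilin, ← bil_eq_toBilin, ← bil_transpose, hg]
    obtain ⟨T, hT⟩ := Cfsg.Agent.H199.PslOddGraph.exists_f0 h2 (Matrix.toBilin' h.1) (hsym h hh) (nondeg_bil h) hfr
    obtain ⟨T', hT'⟩ := Cfsg.Agent.H199.PslOddGraph.exists_f0 h2 (Matrix.toBilin' (1 : GL (Fin n) F).1)
      (hsym 1 (by rw [Units.val_one, transpose_one])) (nondeg_bil 1) hfr
    refine exists_of_equiv (T'.symm.trans T) fun x y => ?_
    rw [LinearEquiv.trans_apply, LinearEquiv.trans_apply, bil_eq_toBilin, bil_eq_toBilin, hT, ← hT',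
      LinearEquiv.apply_symm_apply, LinearEquiv.apply_symm_apply, Units.val_one]

/-- **NF1.** -/
theorem herm_nf {σ : F ≃+* F} (hσ : σ ≠ 1) (h2 : ∀ x, σ (σ x) = x)
    (h : GL (Fin n) F) (hh : (h.1.map σ)ᵀ = h.1) : ∃ P : GL (Fin n) F, h.1 = P.1 * (P.1.map σ)ᵀ := by
  classical
  let τ : F →+* F := (σ : F →+* F)
  have hτ : ∀ x, τ x = σ x := fun _ => rfl
  have hτ1 : τ ≠ RingHom.id F := by
    intro h0
    apply hσ
    ext x
    exact congrArg (fun f : F →+* F => f x) h0
  -- the form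
  let B : (Fin n → F) →ₛₗ[τ] (Fin n → F) →ₗ[F] F :=
    LinearMap.mk₂'ₛₗ τ (RingHom.id F) (fun u v => (fun i => σ (u i)) ⬝ᵥ (h.1 *ᵥ v))
      (fun u u' v => by
        rw [← add_dotProduct]
        congr 1
        ext i
        simp)
      (fun c u v => by
        rw [smul_eq_mul, ← smul_eq_mul, ← smul_dotProduct]
        congr 1
        ext i
        simp [hτ])
      (fun u v v' => by rw [mulVec_add, dotProduct_add])
      (fun c u v => by rw [mulVec_smul, dotProduct_smul]; rfl)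
  have hB : ∀ u v, B u v = (fun i => σ (u i)) ⬝ᵥ (h.1 *ᵥ v) := fun _ _ => rfl
  have hS : B.IsSymm := by
    constructor
    intro u v
    rw [hB, hB, hτ]
    simp only [dotProduct, mulVec, map_sum, map_mul, h2, Finset.mul_sum]
    rw [Finset.sum_comm]
    refine Finset.sum_congr rfl fun i _ => Finset.sum_congr rfl fun j _ => ?_
    have := congrFun (congrFun hh i) j
    rw [transpose_apply, map_apply] at this
    rw [← this]
    ring
  have hnd : B.SeparatingLeft := by
    intro u hu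
    have h1 : (fun i => σ (u i)) = 0 := by
      apply eq_zero_of_dotProduct
      intro w
      have h3 := hu ((h⁻¹).1 *ᵥ w)
      rw [hB, mulVec_mulVec, ← Units.val_mul, mul_inv_cancel, Units.val_one, one_mulVec] at h3
      exact h3
    ext i
    have h3 := congrFun h1 i
    exact (map_eq_zero σ).1 h3
  obtain ⟨b', hb'⟩ := Cfsg.Agent.ClassicalGeometry.HermOrthonormal.exists_orthonormal_basis hτ1 h2 B hS hnd
  let b : Basis (Fin n) F (Fin n → F) := b'.reindex (finCongr (finrank_fin_fun F))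
  have hb : ∀ i j, B (b i) (b j) = if i = j then 1 else 0 := by
    intro i j
    rw [Basis.reindex_apply, Basis.reindex_apply, hb']
    simp
  obtain ⟨A, hA⟩ := exists_cols b
  -- `(σA)ᵀ h A = 1`
  have h3 : (A.1.map σ)ᵀ * h.1 * A.1 = 1 := by
    refine Matrix.ext fun i j => ?_
    have h4 := hb i j
    rw [hB, ← hA, ← hA] at h4
    have h5 : (fun k => σ ((A.1 *ᵥ Pi.single i 1) k)) = (A.1.map σ) *ᵥ Pi.single i 1 := by
      ext k
      rw [mulVec_single_one, mulVec_single_one]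
      rfl
    rw [h5] at h4
    have h6 : (A.1.map σ *ᵥ Pi.single i 1) ⬝ᵥ (h.1 *ᵥ (A.1 *ᵥ Pi.single j 1)) =
        ((A.1.map σ)ᵀ * h.1 * A.1) i j := by
      rw [← bil_single ((A.1.map σ)ᵀ * h.1 * A.1), bil, ← mulVec_mulVec, ← mulVec_mulVec, dotProduct_mulVec _ (A.1.map σ)ᵀ,
        vecMul_transpose]
    rw [h6] at h4
    rw [h4, one_apply]
  -- inverse
  have h4 : ((A⁻¹).1.map σ)ᵀ * (A.1.map σ)ᵀ = 1 := by
    rw [← transpose_mul, ← transpose_one]
    congr 1
    have h5 : A.1.map σ * (A⁻¹).1.map σ = (A.1 * (A⁻¹).1).map σ := (Matrix.map_mul (f := (σ : F →+* F))).symm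
    rw [h5, ← Units.val_mul, mul_inv_cancel, Units.val_one]
    exact Matrix.map_one (σ : F →+* F) (map_zero _) (map_one _)
  have h4' : (A.1.map σ)ᵀ * ((A⁻¹).1.map σ)ᵀ = 1 := mul_eq_one_comm.1 h4
  have h5 : A.1 * (A⁻¹).1 = 1 := by rw [← Units.val_mul, mul_inv_cancel, Units.val_one]
  refine ⟨⟨((A⁻¹).1.map σ)ᵀ, (A.1.map σ)ᵀ, h4, h4'⟩, ?_⟩
  change h.1 = ((A⁻¹).1.map σ)ᵀ * ((((A⁻¹).1.map σ)ᵀ).map σ)ᵀ
  have h6 : ((((A⁻¹).1.map σ)ᵀ).map σ)ᵀ = (A⁻¹).1 := by
    ext i j
    rw [transpose_apply, map_apply, transpose_apply, map_apply, h2]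
  rw [h6]
  calc h.1 = 1 * h.1 * 1 := by rw [Matrix.one_mul, Matrix.mul_one]
    _ = ((A⁻¹).1.map σ)ᵀ * (A.1.map σ)ᵀ * h.1 * (A.1 * (A⁻¹).1) := by rw [h4, h5]
    _ = ((A⁻¹).1.map σ)ᵀ * ((A.1.map σ)ᵀ * h.1 * A.1) * (A⁻¹).1 := by simp only [Matrix.mul_assoc]
    _ = ((A⁻¹).1.map σ)ᵀ * (A⁻¹).1 := by rw [h3, Matrix.mul_one]

end finite

end Cfsg.Agent.H253.Gs
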